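import Mathlib

/-!
# Picardification of a symmetric monoidal category

Objects are formal expressions; two formal morphisms are identified when they evaluate equally in every
Picard category under `A`.
-/

set_option autoImplicit false

open CategoryTheory MonoidalCategory Functor.LaxMonoidal

universe v u v' u'

namespace Groth.Agent.PicardifLib

variable (A : Type u) [Category.{v} A] [MonoidalCategory A] [SymmetricCategory A]

/-- A Picard category under `A`, with chosen inverses. -/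
structure Model where
  P : Type u'
  [cat : Category.{v'} P]
  [mon : MonoidalCategory P]
  [sym : SymmetricCategory P]
  [grpd : IsGroupoid P]
  Φ : A ⥤ P
  [lax : Φ.LaxBraided]
  inv : P → P
  cancel : ∀ p : P, inv p ⊗ p ⟶ 𝟙_ P

attribute [instance] Model.cat Model.mon Model.sym Model.grpd Model.lax

/-- Formal objects. -/
inductive Obj : Type u
  | of (a : A)
  | unit
  | mul (x y : Obj)
  | inv (x : Obj)

variable {A}

/-- Formal morphisms. -/
inductive Mor : Obj A → Obj A → Type (max u v)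
  | of {a b : A} (f : a ⟶ b) : Mor (.of a) (.of b)
  | id (x : Obj A) : Mor x x
  | comp {x y z : Obj A} (f : Mor x y) (g : Mor y z) : Mor x z
  | inv {x y : Obj A} (f : Mor x y) : Mor y x
  | whL (x : Obj A) {y z : Obj A} (f : Mor y z) : Mor (.mul x y) (.mul x z)
  | whR {x y : Obj A} (f : Mor x y) (z : Obj A) : Mor (.mul x z) (.mul y z)
  | assoc (x y z : Obj A) : Mor (.mul (.mul x y) z) (.mul x (.mul y z))
  | lunit (x : Obj A) : Mor (.mul .unit x) x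
  | runit (x : Obj A) : Mor (.mul x .unit) x
  | braid (x y : Obj A) : Mor (.mul x y) (.mul y x)
  | cancel (x : Obj A) : Mor (.mul (.inv x) x) .unit
  | μ (a b : A) : Mor (.mul (.of a) (.of b)) (.of (a ⊗ b))
  | ε : Mor .unit (.of (𝟙_ A))

namespace Model

/-- Evaluation of a formal object. -/
def obj (M : Model.{v, u, v', u'} A) : Obj A → M.P
  | .of a => M.Φ.obj a
  | .unit => 𝟙_ M.P
  | .mul x y => obj M x ⊗ obj M y
  | .inv x => M.inv (obj M x)

/-- Evaluation of a formal morphism. -/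
noncomputable def ev (M : Model.{v, u, v', u'} A) : ∀ {x y : Obj A}, Mor x y → (M.obj x ⟶ M.obj y)
  | _, _, .of f => M.Φ.map f
  | _, _, .id _ => 𝟙 _
  | _, _, .comp f g => ev M f ≫ ev M g
  | _, _, .inv f => CategoryTheory.inv (ev M f)
  | _, _, .whL x f => M.obj x ◁ ev M f
  | _, _, .whR f z => ev M f ▷ M.obj z
  | _, _, .assoc _ _ _ => (α_ _ _ _).hom
  | _, _, .lunit _ => (λ_ _).hom
  | _, _, .runit _ => (ρ_ _).hom
  | _, _, .braid _ _ => (β_ _ _).hom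
  | _, _, .cancel x => M.cancel (M.obj x)
  | _, _, .μ a b => Functor.LaxMonoidal.μ M.Φ a b
  | _, _, .ε => Functor.LaxMonoidal.ε M.Φ

end Model

variable (A) in
/-- The Picardification, relative to a class of models. -/
structure Pic (S : Model.{v, u, v', u'} A → Prop) : Type u where
  val : Obj A

variable {S : Model.{v, u, v', u'} A → Prop}

/-- Formal morphisms with the same value in all models. -/
def rel (S : Model.{v, u, v', u'} A → Prop) (x y : Obj A) : Setoid (Mor x y) where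
  r f g := ∀ M, S M → M.ev f = M.ev g
  iseqv := ⟨fun _ _ _ => rfl, fun h M hM => (h M hM).symm, fun h h' M hM => (h M hM).trans (h' M hM)⟩

namespace Pic

/-- Morphisms of the Picardification. -/
def Hom (x y : Pic A S) : Type (max u v) := Quotient (rel S x.val y.val)

/-- The class of a formal morphism. -/
def cls {x y : Pic A S} (f : Mor x.val y.val) : Hom x y := Quotient.mk _ f

theorem cls_eq {x y : Pic A S} {f g : Mor x.val y.val} (h : ∀ M, S M → M.ev f = M.ev g) :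
    cls f = cls g := Quotient.sound h

/-- Lifting a congruent operation. -/
def map₁ {x y x' y' : Pic A S} (op : Mor x.val y.val → Mor x'.val y'.val)
    (h : ∀ f f', (rel S _ _).r f f' → (rel S _ _).r (op f) (op f')) : Hom x y → Hom x' y' :=
  Quotient.map op h

instance category : Category.{max u v} (Pic A S) where
  Hom := Hom
  id x := cls (.id x.val)
  comp {x y z} := Quotient.map₂ Mor.comp fun f f' hf g g' hg M hM => by
    simp only [Model.ev, hf M hM, hg M hM]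
  id_comp := fun {x y} f => Quotient.inductionOn f fun f => cls_eq fun M _ => Category.id_comp _
  comp_id := fun {x y} f => Quotient.inductionOn f fun f => cls_eq fun M _ => Category.comp_id _
  assoc := fun f g h => Quotient.inductionOn₃ f g h fun f g h => cls_eq fun M _ => Category.assoc _ _ _

/-- The class of a formal morphism, as a morphism. -/
def hom {x y : Pic A S} (f : Mor x.val y.val) : x ⟶ y := cls f

theorem hom_eq {x y : Pic A S} {f g : Mor x.val y.val} (h : ∀ M, S M → M.ev f = M.ev g) :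
    hom f = hom g := cls_eq h

theorem hom_surjective {x y : Pic A S} (f : x ⟶ y) : ∃ g, hom g = f := Quotient.exists_rep f

theorem hom_comp {x y z : Pic A S} (f : Mor x.val y.val) (g : Mor y.val z.val) :
    hom f ≫ hom g = hom (.comp f g) := rfl

theorem id_def (x : Pic A S) : 𝟙 x = hom (.id x.val) := rfl

instance : IsGroupoid (Pic A S) where
  all_isIso {x y} f := by
    obtain ⟨g, rfl⟩ := hom_surjective f
    exact ⟨hom (.inv g), hom_eq fun M _ => IsIso.hom_inv_id _, hom_eq fun M _ => IsIso.inv_hom_id _⟩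

/-- An isomorphism from a formal morphism. -/
def iso {x y : Pic A S} (f : Mor x.val y.val) : x ≅ y where
  hom := hom f
  inv := hom (.inv f)
  hom_inv_id := hom_eq fun M _ => IsIso.hom_inv_id _
  inv_hom_id := hom_eq fun M _ => IsIso.inv_hom_id _

instance struct : MonoidalCategoryStruct (Pic A S) where
  tensorHom {x₁ y₁ x₂ y₂} f g := Quotient.map₂ (fun f g => Mor.comp (Mor.whR f x₂.val) (Mor.whL y₁.val g))
    (fun f f' hf g g' hg M hM => by simp only [Model.ev, hf M hM, hg M hM]) f g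
  tensorObj x y := ⟨.mul x.val y.val⟩
  whiskerLeft x {y z} := map₁ (x := y) (y := z) (Mor.whL x.val) fun f f' h M hM => by
    simp only [Model.ev, h M hM]
  whiskerRight {x y} f z := map₁ (x := x) (y := y) (fun f => Mor.whR f z.val) (fun f f' h M hM => by
    simp only [Model.ev, h M hM]) f
  tensorUnit := ⟨.unit⟩
  associator x y z := iso (x := ⟨.mul (.mul x.val y.val) z.val⟩)
    (y := ⟨.mul x.val (.mul y.val z.val)⟩) (.assoc x.val y.val z.val)
  leftUnitor x := iso (x := ⟨.mul .unit x.val⟩) (y := x) (.lunit x.val)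
  rightUnitor x := iso (x := ⟨.mul x.val .unit⟩) (y := x) (.runit x.val)

theorem whiskerLeft_hom (x : Pic A S) {y z : Pic A S} (f : Mor y.val z.val) :
    x ◁ hom f = hom (.whL x.val f) := rfl

theorem hom_whiskerRight {x y : Pic A S} (f : Mor x.val y.val) (z : Pic A S) :
    hom f ▷ z = hom (.whR f z.val) := rfl

@[simp] theorem tensor_val (x y : Pic A S) : (x ⊗ y).val = .mul x.val y.val := rfl

instance monoidal : MonoidalCategory (Pic A S) where
  toMonoidalCategoryStruct := struct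
  tensorHom_def {x₁ y₁ x₂ y₂} f g := by
    obtain ⟨f, rfl⟩ := hom_surjective f
    obtain ⟨g, rfl⟩ := hom_surjective g
    rfl
  id_tensorHom_id x y := hom_eq fun M _ => by simp [Model.ev, Model.obj]
  tensorHom_comp_tensorHom {x₁ y₁ z₁ x₂ y₂ z₂} f₁ f₂ g₁ g₂ := by
    obtain ⟨f₁, rfl⟩ := hom_surjective f₁
    obtain ⟨f₂, rfl⟩ := hom_surjective f₂
    obtain ⟨g₁, rfl⟩ := hom_surjective g₁
    obtain ⟨g₂, rfl⟩ := hom_surjective g₂
    exact hom_eq fun M _ => by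
      simp [Model.ev, Model.obj, MonoidalCategory.whisker_exchange_assoc]
  whiskerLeft_id x y := hom_eq fun M _ => MonoidalCategory.whiskerLeft_id _ _
  id_whiskerRight x y := hom_eq fun M _ => MonoidalCategory.id_whiskerRight _ _
  associator_naturality {x₁ x₂ x₃ y₁ y₂ y₃} f₁ f₂ f₃ := by
    obtain ⟨f₁, rfl⟩ := hom_surjective f₁
    obtain ⟨f₂, rfl⟩ := hom_surjective f₂
    obtain ⟨f₃, rfl⟩ := hom_surjective f₃
    exact hom_eq fun M _ => by simp [Model.ev, Model.obj]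
  leftUnitor_naturality {x y} f := by
    obtain ⟨f, rfl⟩ := hom_surjective f
    exact hom_eq fun M _ => MonoidalCategory.leftUnitor_naturality _
  rightUnitor_naturality {x y} f := by
    obtain ⟨f, rfl⟩ := hom_surjective f
    exact hom_eq fun M _ => MonoidalCategory.rightUnitor_naturality _
  pentagon w x y z := hom_eq fun M _ => MonoidalCategory.pentagon _ _ _ _
  triangle x y := hom_eq fun M _ => MonoidalCategory.triangle _ _

theorem braid_natural_right (x : Pic A S) {y z : Pic A S} (f : y ⟶ z) :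
    x ◁ f ≫ hom (x := x ⊗ z) (y := z ⊗ x) (.braid x.val z.val) =
      hom (x := x ⊗ y) (y := y ⊗ x) (.braid x.val y.val) ≫ f ▷ x := by
  obtain ⟨f, rfl⟩ := hom_surjective f
  exact hom_eq fun M _ => BraidedCategory.braiding_naturality_right _ _

theorem braid_natural_left {x y : Pic A S} (f : x ⟶ y) (z : Pic A S) :
    f ▷ z ≫ hom (x := y ⊗ z) (y := z ⊗ y) (.braid y.val z.val) =
      hom (x := x ⊗ z) (y := z ⊗ x) (.braid x.val z.val) ≫ z ◁ f := by
  obtain ⟨f, rfl⟩ := hom_surjective f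
  exact hom_eq fun M _ => BraidedCategory.braiding_naturality_left _ _

noncomputable instance symmetric : SymmetricCategory (Pic A S) where
  braiding x y := ⟨hom (.braid x.val y.val), hom (.braid y.val x.val),
    hom_eq fun M _ => SymmetricCategory.symmetry _ _, hom_eq fun M _ => SymmetricCategory.symmetry _ _⟩
  braiding_naturality_right := braid_natural_right
  braiding_naturality_left := braid_natural_left
  hexagon_forward x y z := hom_eq fun M _ => BraidedCategory.hexagon_forward _ _ _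
  hexagon_reverse x y z := hom_eq fun M _ => by
    have h := BraidedCategory.hexagon_reverse (M.obj x.val) (M.obj y.val) (M.obj z.val)
    simp only [← IsIso.Iso.inv_hom] at h
    exact h
  symmetry x y := hom_eq fun M _ => SymmetricCategory.symmetry _ _

/-- The cancellation isomorphism. -/
def cancel (x : Pic A S) : (⟨.inv x.val⟩ : Pic A S) ⊗ x ⟶ 𝟙_ (Pic A S) := hom (.cancel x.val)

theorem isEquivalence_tensor (x : Pic A S) :
    (tensorLeft x).IsEquivalence ∧ (tensorRight x).IsEquivalence := by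
  let y : Pic A S := ⟨.inv x.val⟩
  let e : y ⊗ x ≅ 𝟙_ (Pic A S) := asIso (cancel x)
  let e' : x ⊗ y ≅ 𝟙_ (Pic A S) := (β_ x y).trans e
  have hL : (tensorLeft x).IsEquivalence :=
    (CategoryTheory.Equivalence.mk (tensorLeft x) (tensorLeft y)
      ((leftUnitorNatIso (Pic A S)).symm ≪≫ (tensoringLeft (Pic A S)).mapIso e.symm ≪≫ tensorLeftTensor y x)
      ((tensorLeftTensor x y).symm ≪≫ (tensoringLeft (Pic A S)).mapIso e' ≪≫ leftUnitorNatIso (Pic A S))).isEquivalence_functor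
  exact ⟨hL, Functor.isEquivalence_of_iso (BraidedCategory.tensorLeftIsoTensorRight x)⟩

variable (S) in
/-- The canonical functor. -/
def incl : A ⥤ Pic A S where
  obj a := ⟨.of a⟩
  map f := hom (.of f)
  map_id a := hom_eq fun M _ => M.Φ.map_id a
  map_comp f g := hom_eq fun M _ => M.Φ.map_comp f g

noncomputable instance : (incl S).LaxBraided where
  ε := hom (x := 𝟙_ (Pic A S)) (y := (incl S).obj (𝟙_ A)) .ε
  μ a b := hom (x := (incl S).obj a ⊗ (incl S).obj b) (y := (incl S).obj (a ⊗ b)) (.μ a b)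
  μ_natural_left f X' := hom_eq fun M _ => μ_natural_left M.Φ f X'
  μ_natural_right X' f := hom_eq fun M _ => μ_natural_right M.Φ X' f
  associativity X Y Z := hom_eq fun M _ => associativity M.Φ X Y Z
  left_unitality X := hom_eq fun M _ => left_unitality M.Φ X
  right_unitality X := hom_eq fun M _ => right_unitality M.Φ X
  braided X Y := hom_eq fun M _ => Functor.LaxBraided.braided (F := M.Φ) X Y

/-- Evaluation in a model. -/
noncomputable def desc (M : Model.{v, u, v', u'} A) (hM : S M) : Pic A S ⥤ M.P where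
  obj x := M.obj x.val
  map {x y} := Quotient.lift M.ev fun f g h => h M hM
  map_id x := rfl
  map_comp {x y z} f g := Quotient.inductionOn₂ f g fun f g => rfl

noncomputable instance desc_laxBraided (M : Model.{v, u, v', u'} A) (hM : S M) :
    (desc M hM).LaxBraided where
  ε := 𝟙 (𝟙_ M.P)
  μ x y := 𝟙 (M.obj x.val ⊗ M.obj y.val)
  μ_natural_left f X' := by
    obtain ⟨f, rfl⟩ := hom_surjective f
    exact (Category.comp_id _).trans (Category.id_comp _).symm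
  μ_natural_right X' f := by
    obtain ⟨f, rfl⟩ := hom_surjective f
    exact (Category.comp_id _).trans (Category.id_comp _).symm
  associativity X Y Z := by
    show 𝟙 (M.obj X.val ⊗ M.obj Y.val) ▷ M.obj Z.val ≫ 𝟙 _ ≫ (α_ (M.obj X.val) (M.obj Y.val) (M.obj Z.val)).hom =
      (α_ (M.obj X.val) (M.obj Y.val) (M.obj Z.val)).hom ≫ M.obj X.val ◁ 𝟙 (M.obj Y.val ⊗ M.obj Z.val) ≫ 𝟙 _
    simp
  left_unitality X := by
    show (λ_ (M.obj X.val)).hom = 𝟙 (𝟙_ M.P) ▷ M.obj X.val ≫ 𝟙 _ ≫ (λ_ (M.obj X.val)).hom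
    simp
  right_unitality X := by
    show (ρ_ (M.obj X.val)).hom = M.obj X.val ◁ 𝟙 (𝟙_ M.P) ≫ 𝟙 _ ≫ (ρ_ (M.obj X.val)).hom
    simp
  braided X Y := (Category.id_comp _).trans (Category.comp_id _).symm

theorem exists_desc (M : Model.{v, u, v', u'} A) (hM : S M) :
    ∃ (Ψ : Pic A S ⥤ M.P) (_ : Ψ.LaxBraided) (η : incl S ⋙ Ψ ≅ M.Φ), NatTrans.IsMonoidal η.hom := by
  refine ⟨desc M hM, inferInstance,
    NatIso.ofComponents (fun a => Iso.refl (M.Φ.obj a)) (fun f => (Category.comp_id _).trans (Category.id_comp _).symm),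
    ⟨?_, fun a b => ?_⟩⟩
  · show (𝟙 (𝟙_ M.P) ≫ ε M.Φ) ≫ 𝟙 (M.Φ.obj (𝟙_ A)) = ε M.Φ
    simp
  · show (𝟙 (M.Φ.obj a ⊗ M.Φ.obj b) ≫ μ M.Φ a b) ≫ 𝟙 (M.Φ.obj (a ⊗ b)) =
      (𝟙 (M.Φ.obj a) ⊗ₘ 𝟙 (M.Φ.obj b)) ≫ μ M.Φ a b
    simp

section ext

variable {P : Type u'} [Category.{v'} P] [MonoidalCategory P] [SymmetricCategory P] [IsGroupoid P]
  (hP : ∀ X : P, (tensorLeft X).IsEquivalence ∧ (tensorRight X).IsEquivalence)
  (Ψ Ψ' : Pic A S ⥤ P) [Ψ.LaxBraided] [Ψ'.LaxBraided] (τ : incl S ⋙ Ψ ⟶ incl S ⋙ Ψ')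

/-- Components of the extension of `τ`. -/
noncomputable def comp' : ∀ x : Obj A, Ψ.obj ⟨x⟩ ⟶ Ψ'.obj ⟨x⟩
  | .of a => τ.app a
  | .unit => inv (ε Ψ) ≫ ε Ψ'
  | .mul x y => inv (μ Ψ ⟨x⟩ ⟨y⟩) ≫ (comp' x ⊗ₘ comp' y) ≫ μ Ψ' ⟨x⟩ ⟨y⟩
  | .inv x =>
    haveI := (hP (Ψ.obj ⟨x⟩)).2
    (tensorRight (Ψ.obj ⟨x⟩)).preimage
      ((μ Ψ ⟨.inv x⟩ ⟨x⟩ ≫ Ψ.map (cancel ⟨x⟩) ≫ inv (ε Ψ)) ≫
        inv (μ Ψ' ⟨.inv x⟩ ⟨x⟩ ≫ Ψ'.map (cancel ⟨x⟩) ≫ inv (ε Ψ')) ≫ Ψ'.obj ⟨.inv x⟩ ◁ inv (comp' x))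

/-- Components of the extension of `τ`, on objects of the Picardification. -/
noncomputable abbrev θ (x : Pic A S) : Ψ.obj x ⟶ Ψ'.obj x := comp' hP Ψ Ψ' τ x.val

theorem comp'_unit : ε Ψ ≫ θ hP Ψ Ψ' τ (𝟙_ (Pic A S)) = ε Ψ' := by
  show ε Ψ ≫ comp' hP Ψ Ψ' τ .unit = _
  rw [comp', IsIso.hom_inv_id_assoc]

theorem comp'_mul (x y : Pic A S) :
    μ Ψ x y ≫ θ hP Ψ Ψ' τ (x ⊗ y) = (θ hP Ψ Ψ' τ x ⊗ₘ θ hP Ψ Ψ' τ y) ≫ μ Ψ' x y := by
  show μ Ψ x y ≫ comp' hP Ψ Ψ' τ (.mul x.val y.val) = _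
  rw [comp', IsIso.hom_inv_id_assoc]

theorem comp'_cancel (x : Pic A S) :
    (θ hP Ψ Ψ' τ ⟨.inv x.val⟩ ⊗ₘ θ hP Ψ Ψ' τ x) ≫ μ Ψ' ⟨.inv x.val⟩ x ≫ Ψ'.map (cancel x) ≫ inv (ε Ψ') =
      μ Ψ ⟨.inv x.val⟩ x ≫ Ψ.map (cancel x) ≫ inv (ε Ψ) := by
  obtain ⟨x⟩ := x
  haveI := (hP (Ψ.obj ⟨x⟩)).2
  show (comp' hP Ψ Ψ' τ (.inv x) ⊗ₘ comp' hP Ψ Ψ' τ x) ≫ _ = _
  rw [MonoidalCategory.tensorHom_def, comp']
  rw [show ∀ {p q : P} (g : p ⊗ Ψ.obj ⟨x⟩ ⟶ q ⊗ Ψ.obj ⟨x⟩),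
      (tensorRight (Ψ.obj ⟨x⟩)).preimage g ▷ Ψ.obj ⟨x⟩ = g from
    fun g => (tensorRight (Ψ.obj ⟨x⟩)).map_preimage g]
  simp only [Category.assoc, ← MonoidalCategory.whiskerLeft_comp_assoc, IsIso.inv_hom_id,
    MonoidalCategory.whiskerLeft_id, Category.id_comp]
  simp

theorem natural_whL (x : Pic A S) {y z : Pic A S} (f : y ⟶ z)
    (ih : Ψ.map f ≫ θ hP Ψ Ψ' τ z = θ hP Ψ Ψ' τ y ≫ Ψ'.map f) :
    Ψ.map (x ◁ f) ≫ θ hP Ψ Ψ' τ (x ⊗ z) = θ hP Ψ Ψ' τ (x ⊗ y) ≫ Ψ'.map (x ◁ f) := by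
  rw [← cancel_epi (μ Ψ x y), ← μ_natural_right_assoc, comp'_mul, reassoc_of% comp'_mul hP Ψ Ψ' τ x y,
    ← μ_natural_right, ← id_tensorHom, ← id_tensorHom, tensorHom_comp_tensorHom_assoc,
    tensorHom_comp_tensorHom_assoc, Category.id_comp, Category.comp_id, ih]

theorem natural_whR {x y : Pic A S} (f : x ⟶ y) (z : Pic A S)
    (ih : Ψ.map f ≫ θ hP Ψ Ψ' τ y = θ hP Ψ Ψ' τ x ≫ Ψ'.map f) :
    Ψ.map (f ▷ z) ≫ θ hP Ψ Ψ' τ (y ⊗ z) = θ hP Ψ Ψ' τ (x ⊗ z) ≫ Ψ'.map (f ▷ z) := by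
  rw [← cancel_epi (μ Ψ x z), ← μ_natural_left_assoc, comp'_mul, reassoc_of% comp'_mul hP Ψ Ψ' τ x z,
    ← μ_natural_left, ← tensorHom_id, ← tensorHom_id, tensorHom_comp_tensorHom_assoc,
    tensorHom_comp_tensorHom_assoc, Category.id_comp, Category.comp_id, ih]

theorem natural_assoc (x y z : Pic A S) :
    Ψ.map (α_ x y z).hom ≫ θ hP Ψ Ψ' τ (x ⊗ (y ⊗ z)) = θ hP Ψ Ψ' τ ((x ⊗ y) ⊗ z) ≫ Ψ'.map (α_ x y z).hom := by
  rw [← cancel_epi (μ Ψ (x ⊗ y) z), ← cancel_epi (μ Ψ x y ▷ Ψ.obj z), associativity_assoc,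
    comp'_mul, reassoc_of% comp'_mul hP Ψ Ψ' τ (x ⊗ y) z, ← id_tensorHom, ← tensorHom_id,
    tensorHom_comp_tensorHom_assoc, tensorHom_comp_tensorHom_assoc, Category.id_comp, Category.id_comp,
    comp'_mul, comp'_mul, ← Category.comp_id (θ hP Ψ Ψ' τ x), ← Category.comp_id (θ hP Ψ Ψ' τ z),
    ← tensorHom_comp_tensorHom_assoc, ← tensorHom_comp_tensorHom_assoc, tensorHom_id, id_tensorHom,
    Category.comp_id, Category.comp_id, associativity]
  simp only [← Category.assoc, associator_naturality]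

theorem natural_lunit (x : Pic A S) :
    Ψ.map (λ_ x).hom ≫ θ hP Ψ Ψ' τ x = θ hP Ψ Ψ' τ (𝟙_ _ ⊗ x) ≫ Ψ'.map (λ_ x).hom := by
  rw [← cancel_epi (μ Ψ (𝟙_ _) x), ← cancel_epi (ε Ψ ▷ Ψ.obj x), ← left_unitality_assoc,
    reassoc_of% comp'_mul hP Ψ Ψ' τ (𝟙_ _) x, ← tensorHom_id, tensorHom_comp_tensorHom_assoc, comp'_unit,
    Category.id_comp, MonoidalCategory.tensorHom_def', Category.assoc, ← left_unitality,
    MonoidalCategory.leftUnitor_naturality]

theorem natural_runit (x : Pic A S) :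
    Ψ.map (ρ_ x).hom ≫ θ hP Ψ Ψ' τ x = θ hP Ψ Ψ' τ (x ⊗ 𝟙_ _) ≫ Ψ'.map (ρ_ x).hom := by
  rw [← cancel_epi (μ Ψ x (𝟙_ _)), ← cancel_epi (Ψ.obj x ◁ ε Ψ), ← right_unitality_assoc,
    reassoc_of% comp'_mul hP Ψ Ψ' τ x (𝟙_ _), ← id_tensorHom, tensorHom_comp_tensorHom_assoc, comp'_unit,
    Category.id_comp, MonoidalCategory.tensorHom_def, Category.assoc, ← right_unitality,
    MonoidalCategory.rightUnitor_naturality]

theorem natural_braid (x y : Pic A S) :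
    Ψ.map (β_ x y).hom ≫ θ hP Ψ Ψ' τ (y ⊗ x) = θ hP Ψ Ψ' τ (x ⊗ y) ≫ Ψ'.map (β_ x y).hom := by
  rw [← cancel_epi (μ Ψ x y), Functor.LaxBraided.braided_assoc, comp'_mul,
    reassoc_of% comp'_mul hP Ψ Ψ' τ x y, Functor.LaxBraided.braided,
    BraidedCategory.braiding_naturality_assoc]

theorem natural_cancel (x : Pic A S) :
    Ψ.map (cancel x) ≫ θ hP Ψ Ψ' τ (𝟙_ _) = θ hP Ψ Ψ' τ (⟨.inv x.val⟩ ⊗ x) ≫ Ψ'.map (cancel x) := by
  have h := comp'_cancel hP Ψ Ψ' τ x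
  rw [← reassoc_of% comp'_mul hP Ψ Ψ' τ ⟨.inv x.val⟩ x, cancel_epi, ← Category.assoc,
    IsIso.comp_inv_eq] at h
  rw [h, Category.assoc, ← comp'_unit hP Ψ Ψ' τ, IsIso.inv_hom_id_assoc]

theorem natural_μ [NatTrans.IsMonoidal τ] (a b : A) :
    Ψ.map (μ (incl S) a b) ≫ θ hP Ψ Ψ' τ ((incl S).obj (a ⊗ b)) =
      θ hP Ψ Ψ' τ ((incl S).obj a ⊗ (incl S).obj b) ≫ Ψ'.map (μ (incl S) a b) := by
  rw [← cancel_epi (μ Ψ ((incl S).obj a) ((incl S).obj b)), reassoc_of% comp'_mul hP Ψ Ψ' τ ((incl S).obj a) ((incl S).obj b)]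
  have := NatTrans.IsMonoidal.tensor (τ := τ) a b
  rw [Functor.LaxMonoidal.comp_μ, Functor.LaxMonoidal.comp_μ, Category.assoc] at this
  exact this

theorem natural_ε [NatTrans.IsMonoidal τ] :
    Ψ.map (ε (incl S)) ≫ θ hP Ψ Ψ' τ ((incl S).obj (𝟙_ A)) = θ hP Ψ Ψ' τ (𝟙_ _) ≫ Ψ'.map (ε (incl S)) := by
  rw [← cancel_epi (ε Ψ), reassoc_of% comp'_unit hP Ψ Ψ' τ]
  have := NatTrans.IsMonoidal.unit (τ := τ)
  rw [Functor.LaxMonoidal.comp_ε, Functor.LaxMonoidal.comp_ε, Category.assoc] at this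
  exact this

theorem comp'_natural [NatTrans.IsMonoidal τ] {x y : Pic A S} (f : x ⟶ y) :
    Ψ.map f ≫ θ hP Ψ Ψ' τ y = θ hP Ψ Ψ' τ x ≫ Ψ'.map f := by
  obtain ⟨f, rfl⟩ := hom_surjective f
  obtain ⟨x⟩ := x
  obtain ⟨y⟩ := y
  change Mor x y at f
  induction f with
  | of f => exact τ.naturality f
  | id x =>
    rw [← id_def (⟨x⟩ : Pic A S), Ψ.map_id, Ψ'.map_id, Category.id_comp, Category.comp_id]
  | @comp x y z f g ihf ihg =>
    rw [← hom_comp (x := ⟨x⟩) (y := ⟨y⟩) (z := ⟨z⟩) f g, Functor.map_comp, Functor.map_comp, Category.assoc,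
      ihg, reassoc_of% ihf]
  | @inv x y f ih =>
    have : hom (x := (⟨y⟩ : Pic A S)) (y := ⟨x⟩) (.inv f) = inv (hom (x := (⟨x⟩ : Pic A S)) (y := ⟨y⟩) f) :=
      IsIso.eq_inv_of_hom_inv_id (hom_eq fun M _ => IsIso.hom_inv_id _)
    rw [this, Functor.map_inv, Functor.map_inv, IsIso.inv_comp_eq, ← Category.assoc, IsIso.eq_comp_inv]
    exact ih.symm
  | @whL x y z f ih => exact natural_whL hP Ψ Ψ' τ ⟨x⟩ (y := ⟨y⟩) (z := ⟨z⟩) (hom f) ih
  | @whR x y f z ih => exact natural_whR hP Ψ Ψ' τ (x := ⟨x⟩) (y := ⟨y⟩) (hom f) ⟨z⟩ ih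
  | assoc x y z => exact natural_assoc hP Ψ Ψ' τ ⟨x⟩ ⟨y⟩ ⟨z⟩
  | lunit x => exact natural_lunit hP Ψ Ψ' τ ⟨x⟩
  | runit x => exact natural_runit hP Ψ Ψ' τ ⟨x⟩
  | braid x y => exact natural_braid hP Ψ Ψ' τ ⟨x⟩ ⟨y⟩
  | cancel x => exact natural_cancel hP Ψ Ψ' τ ⟨x⟩
  | μ a b => exact natural_μ hP Ψ Ψ' τ a b
  | ε => exact natural_ε hP Ψ Ψ' τ

include hP in
theorem existsUnique_ext [NatTrans.IsMonoidal τ] :
    ∃! η : Ψ ⟶ Ψ', NatTrans.IsMonoidal η ∧ Functor.whiskerLeft (incl S) η = τ := by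
  refine ⟨{ app := fun x => θ hP Ψ Ψ' τ x, naturality := fun x y f => comp'_natural hP Ψ Ψ' τ f },
    ⟨⟨comp'_unit hP Ψ Ψ' τ, comp'_mul hP Ψ Ψ' τ⟩, ?_⟩, fun η hη => ?_⟩
  · ext a; rfl
  · haveI := hη.1
    ext x
    obtain ⟨x⟩ := x
    show η.app ⟨x⟩ = θ hP Ψ Ψ' τ ⟨x⟩
    induction x with
    | of a => exact NatTrans.congr_app hη.2 a
    | unit =>
      show η.app (𝟙_ (Pic A S)) = θ hP Ψ Ψ' τ (𝟙_ (Pic A S))
      rw [← cancel_epi (ε Ψ), comp'_unit, NatTrans.IsMonoidal.unit]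
    | mul x y ihx ihy =>
      show η.app ((⟨x⟩ : Pic A S) ⊗ ⟨y⟩) = θ hP Ψ Ψ' τ ((⟨x⟩ : Pic A S) ⊗ ⟨y⟩)
      rw [← cancel_epi (μ Ψ (⟨x⟩ : Pic A S) ⟨y⟩), comp'_mul, NatTrans.IsMonoidal.tensor, ihx, ihy]
    | inv x ih =>
      haveI := (hP (Ψ.obj ⟨x⟩)).2
      refine (tensorRight (Ψ.obj ⟨x⟩)).map_injective ?_
      show η.app ⟨.inv x⟩ ▷ _ = θ hP Ψ Ψ' τ ⟨.inv x⟩ ▷ _
      rw [← cancel_mono (Ψ'.obj ⟨.inv x⟩ ◁ θ hP Ψ Ψ' τ ⟨x⟩), ← MonoidalCategory.tensorHom_def,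
        ← MonoidalCategory.tensorHom_def,
        ← cancel_mono (μ Ψ' (⟨.inv x⟩ : Pic A S) ⟨x⟩ ≫ Ψ'.map (cancel ⟨x⟩) ≫ inv (ε Ψ')),
        comp'_cancel hP Ψ Ψ' τ ⟨x⟩, ← ih,
        ← reassoc_of% NatTrans.IsMonoidal.tensor (τ := η) (⟨.inv x⟩ : Pic A S) ⟨x⟩,
        cancel_epi, ← NatTrans.naturality_assoc, cancel_epi,
        IsIso.comp_inv_eq, ← NatTrans.IsMonoidal.unit (τ := η), IsIso.inv_hom_id_assoc]

end ext

end Pic

end Groth.Agent.PicardifLib
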